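import Mathlib
import Cfsg.Prelude.Def_LieTypeDatum
import Cfsg.Agent.H966.Frob
import Cfsg.Agent.ClassicalGeometry.SympGamma
import Cfsg.Agent.ClassicalGeometry.SympIso
set_option linter.all false

/-!
# Semisimilitudes of the symplectic form whose order is that of the field automorphism (helper966)

`exists_conj_frob` : `g` a semisimilitude with field automorphism `σ` of order `ℓ`, `g ^ ℓ = 1`: `g = h ∘ σ ∘ h⁻¹` with
`h` a similitude.
-/

set_option autoImplicit false

namespace Cfsg.Agent.H966.PSpField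

open Cfsg
open Cfsg.Agent.CpAut.Descent (Semi hilbert90)
open Cfsg.Agent.H966.Frob
open Cfsg.Agent.ClassicalGeometry.SympBasic Cfsg.Agent.ClassicalGeometry.SympAutSemi
  Cfsg.Agent.ClassicalGeometry.SympGamma Cfsg.Agent.ClassicalGeometry.SympIso

variable {F : Type*} [Field F] {m : ℕ}

theorem semi_of_isSemi {g : Equiv.Perm (Fin m ⊕ Fin m → F)} {σ : F ≃+* F} {l : F}
    (hg : IsSemi g σ l) : Semi g σ := ⟨hg.1, hg.2.1⟩

theorem isSemi_one : IsSemi (1 : Equiv.Perm (Fin m ⊕ Fin m → F)) (1 : F ≃+* F) 1 :=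
  ⟨fun _ _ => rfl, fun _ _ => rfl, fun _ _ => by rw [one_mul]; rfl⟩

theorem isSemi_pow {g : Equiv.Perm (Fin m ⊕ Fin m → F)} {σ : F ≃+* F} {l : F}
    (hg : IsSemi g σ l) (k : ℕ) :
    IsSemi (g ^ k) (σ ^ k) (∏ i ∈ Finset.range k, (σ ^ i) l) := by
  induction k with
  | zero => simpa using isSemi_one
  | succ k ih =>
    have h := ih.mul hg
    rw [← pow_succ] at h
    rw [Finset.prod_range_succ, pow_succ]
    exact h

theorem norm_eq_one (hm : 1 ≤ m) {g : Equiv.Perm (Fin m ⊕ Fin m → F)} {σ : F ≃+* F} {l : F}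
    (hg : IsSemi g σ l) {ℓ : ℕ} (hgl : g ^ ℓ = 1) :
    ∏ i ∈ Finset.range ℓ, (σ ^ i) l = 1 := by
  have h := isSemi_pow hg ℓ
  rw [hgl] at h
  exact (IsSemi.unique hm h isSemi_one).2

/-- **Descent for semisimilitudes.** -/
theorem exists_conj_frob (hm : 1 ≤ m) {g : Equiv.Perm (Fin m ⊕ Fin m → F)} {σ : F ≃+* F} {l : F}
    (hg : IsSemi g σ l) {ℓ : ℕ} (hσ : orderOf σ = ℓ) (hℓ : 0 < ℓ) (hgl : g ^ ℓ = 1) :
    ∃ (h : Equiv.Perm (Fin m ⊕ Fin m → F)) (e : F), e ≠ 0 ∧ IsSemi h (RingEquiv.refl F) e ∧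
      g = h * frobPerm m σ * h⁻¹ := by
  obtain ⟨e, he0, he⟩ := hilbert90 hσ hℓ (norm_eq_one hm hg hgl)
  obtain ⟨h0, hh0⟩ := exists_linearEquiv (semi_of_isSemi hg) hσ hℓ hgl
  -- the rescaled form in the new coordinates
  let B : (Fin m ⊕ Fin m → F) → (Fin m ⊕ Fin m → F) → F := fun x y =>
    e⁻¹ * sympForm m F (h0 x) (h0 y)
  have hBσ : ∀ x y, B (frob _ σ x) (frob _ σ y) = σ (B x y) := by
    intro x y
    change e⁻¹ * sympForm m F (h0 (frob _ σ x)) (h0 (frob _ σ y)) = σ (e⁻¹ * sympForm m F (h0 x) (h0 y))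
    rw [← hh0, ← hh0, hg.2.2, map_mul, map_inv₀]
    have hσe : σ e ≠ 0 := by simpa using he0
    have h1 : l * σ e = e := he
    field_simp
    linear_combination σ (sympForm m F (h0 x) (h0 y)) * h1
  have hBf : ∀ x y : Fin m ⊕ Fin m → fix σ, B (inc _ x) (inc _ y) ∈ fix σ := by
    intro x y
    rw [mem_fix, ← hBσ, frob_inc, frob_inc]
  let B0 : LinearMap.BilinForm (fix σ) (Fin m ⊕ Fin m → fix σ) :=
    LinearMap.mk₂ (fix σ) (fun x y => (⟨B (inc _ x) (inc _ y), hBf x y⟩ : fix σ))
      (fun x x' y => Subtype.ext (by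
        change e⁻¹ * sympForm m F (h0 (inc _ x + inc _ x')) (h0 (inc _ y)) =
          e⁻¹ * sympForm m F (h0 (inc _ x)) (h0 (inc _ y)) + e⁻¹ * sympForm m F (h0 (inc _ x')) (h0 (inc _ y))
        rw [map_add, sympForm_add_left, mul_add]))
      (fun c x y => Subtype.ext (by
        change e⁻¹ * sympForm m F (h0 ((c : F) • inc _ x)) (h0 (inc _ y)) =
          (c : F) * (e⁻¹ * sympForm m F (h0 (inc _ x)) (h0 (inc _ y)))
        rw [map_smul, sympForm_smul_left]; ring))
      (fun x y y' => Subtype.ext (by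
        change e⁻¹ * sympForm m F (h0 (inc _ x)) (h0 (inc _ y + inc _ y')) =
          e⁻¹ * sympForm m F (h0 (inc _ x)) (h0 (inc _ y)) + e⁻¹ * sympForm m F (h0 (inc _ x)) (h0 (inc _ y'))
        rw [map_add, sympForm_add_right, mul_add]))
      (fun c x y => Subtype.ext (by
        change e⁻¹ * sympForm m F (h0 (inc _ x)) (h0 ((c : F) • inc _ y)) =
          (c : F) * (e⁻¹ * sympForm m F (h0 (inc _ x)) (h0 (inc _ y)))
        rw [map_smul, sympForm_smul_right]; ring))
  have hB0 : ∀ x y, ((B0 x y : fix σ) : F) = e⁻¹ * sympForm m F (h0 (inc _ x)) (h0 (inc _ y)) :=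
    fun _ _ => rfl
  have hexp : ∀ y : Fin m ⊕ Fin m → F, y = ∑ i, y i • inc (fix σ) (Pi.single i 1) := fun y => by
    funext j
    rw [Finset.sum_apply]
    simp [inc_single, Pi.single_apply]
  obtain ⟨k0, hk0⟩ := exists_linearEquiv_sympForm B0 (k := m) (fun x => Subtype.ext (by
      rw [hB0, sympForm_self, mul_zero]; rfl)) (fun x hx => by
      have h1 : ∀ y : Fin m ⊕ Fin m → F, sympForm m F (h0 (inc _ x)) (h0 y) = 0 := by
        intro y
        have h2 : ∀ y : Fin m ⊕ Fin m → fix σ, sympForm m F (h0 (inc _ x)) (h0 (inc _ y)) = 0 := by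
          intro y
          have h3 := congrArg (fun a : fix σ => (a : F)) (hx y)
          change ((B0 x y : fix σ) : F) = 0 at h3
          rw [hB0, mul_eq_zero] at h3
          exact h3.resolve_left (inv_ne_zero he0)
        rw [hexp y, map_sum]
        have h4 : ∀ (s : Finset (Fin m ⊕ Fin m)) (f : Fin m ⊕ Fin m → (Fin m ⊕ Fin m → F)) u,
            (∀ i, sympForm m F u (f i) = 0) → sympForm m F u (∑ i ∈ s, f i) = 0 := by
          intro s f u hf
          induction s using Finset.induction_on with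
          | empty => simp
          | insert a s ha ih => rw [Finset.sum_insert ha, sympForm_add_right, hf, ih, add_zero]
        apply h4
        intro i
        rw [map_smul, sympForm_smul_right, h2, mul_zero]
      have h3 : h0 (inc _ x) = 0 := by
        apply eq_zero_of_forall_sympForm_right
        intro v
        have := h1 (h0.symm v)
        rwa [LinearEquiv.apply_symm_apply] at this
      have h4 : inc (fix σ) x = 0 := by simpa using h3
      exact inc_injective _ h4) (by
      rw [Module.finrank_fintype_fun_eq_card, Fintype.card_sum, Fintype.card_fin]; ring)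
  obtain ⟨k, hk⟩ := exists_extend (fix σ) k0
  have hkf := frob_comm hk
  let H := k.trans h0
  have hH : ∀ v, H v = h0 (k v) := fun _ => rfl
  -- the form
  have hform : ∀ x y, sympForm m F (H x) (H y) = e * sympForm m F x y := by
    have h1 : ∀ x y : Fin m ⊕ Fin m → fix σ,
        sympForm m F (H (inc _ x)) (H (inc _ y)) = e * sympForm m F (inc _ x) (inc _ y) := by
      intro x y
      rw [hH, hH, hk, hk]
      have h2 := congrArg (fun a : fix σ => (a : F)) (hk0 x y)
      change ((B0 (k0 x) (k0 y) : fix σ) : F) = ((sympForm m (fix σ) x y : fix σ) : F) at h2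
      rw [hB0] at h2
      have h3 : ((sympForm m (fix σ) x y : fix σ) : F) = sympForm m F (inc _ x) (inc _ y) := by
        rw [sympForm_eq_sum, sympForm_eq_sum]
        push_cast
        rfl
      rw [h3] at h2
      rw [← h2, mul_inv_cancel_left₀ he0]
    have hB : (sympBilin m F).compl₁₂ H.toLinearMap H.toLinearMap = e • sympBilin m F := by
      apply LinearMap.ext_basis (Pi.basisFun F (Fin m ⊕ Fin m)) (Pi.basisFun F (Fin m ⊕ Fin m))
      intro i j
      rw [Pi.basisFun_apply, Pi.basisFun_apply]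
      have h4 := h1 (Pi.single i 1) (Pi.single j 1)
      rw [inc_single, inc_single] at h4
      exact h4
    intro x y
    exact LinearMap.congr_fun₂ hB x y
  refine ⟨H.toEquiv, e, he0, ⟨fun u v => map_add H u v, fun a v => map_smul H a v, hform⟩, ?_⟩
  rw [eq_mul_inv_iff_mul_eq]
  ext1 v
  rw [Equiv.Perm.mul_apply, Equiv.Perm.mul_apply]
  change g (H v) = H (frob _ σ v)
  rw [hH, hh0, ← hkf]
  rfl

end Cfsg.Agent.H966.PSpField
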