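import Mathlib
import Cfsg.Prelude.Def_LieTypeDatum
import Cfsg.Agent.H966.Frob
import Cfsg.Agent.ClassicalGeometry.AutPSL.Main
set_option linter.all false

/-!
# `Inndiag(PSL)`, field and inverse-transpose automorphisms (helper966)

In terms of `cj`, `fld`, `itr`, `lift` of `ClassicalGeometry.AutPSL.Auto`:
* `inndiag_eq` : `inndiagPSL n F` is the image of `GL`; `inndiag_normal`;
* `std_iff`, `invTranspose_iff` : standard field automorphisms, the inverse transpose;
* `exists_conj` : `(cj A * fld σ) ^ ℓ` trivial on `PSL`, `ℓ` the order of `σ`: `cj A * fld σ = cj H * fld σ * (cj H)⁻¹`.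
-/

set_option autoImplicit false

namespace Cfsg.Agent.H966.PSLAut

open Cfsg
open scoped Matrix
open Cfsg.Agent.CpAut.Descent (Semi)
open Cfsg.Agent.H966.Frob
open Cfsg.Agent.ClassicalGeometry.AutPSL.Root
open Cfsg.Agent.ClassicalGeometry.AutPSL.Auto
open Cfsg.Agent.ClassicalGeometry.AutPSL.Main

universe u

section general

variable {ι : Type*} [Fintype ι] [DecidableEq ι] {F : Type u} [Field F]

/-- `σ` applied to the entries of an invertible matrix. -/
def sg (σ : F ≃+* F) : GL ι F →* GL ι F := Matrix.GeneralLinearGroup.map (σ : F →+* F)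

theorem coe_sg (σ : F ≃+* F) (A : GL ι F) : (sg σ A : Matrix ι ι F) = (A : Matrix ι ι F).map σ := rfl

theorem fld_mul_cj (σ : F ≃+* F) (A : GL ι F) : fld σ * cj A = cj (sg σ A) * fld σ := by
  apply MulEquiv.ext
  intro g
  apply Subtype.ext
  change ((A : Matrix ι ι F) * g.1 * ((A⁻¹ : GL ι F) : Matrix ι ι F)).map σ =
    (A : Matrix ι ι F).map σ * (g.1).map σ * (((sg σ A)⁻¹ : GL ι F) : Matrix ι ι F)
  rw [← map_inv, coe_sg, Matrix.map_mul, Matrix.map_mul]

/-- The contragredient. -/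
def ctr (A : GL ι F) : GL ι F where
  val := ((A⁻¹ : GL ι F) : Matrix ι ι F)ᵀ
  inv := (A : Matrix ι ι F)ᵀ
  val_inv := by rw [← Matrix.transpose_mul, ← Units.val_mul, mul_inv_cancel]; simp
  inv_val := by rw [← Matrix.transpose_mul, ← Units.val_mul, inv_mul_cancel]; simp

theorem coe_ctr (A : GL ι F) : (ctr A : Matrix ι ι F) = ((A⁻¹ : GL ι F) : Matrix ι ι F)ᵀ := rfl

theorem coe_ctr_inv (A : GL ι F) : (((ctr A)⁻¹ : GL ι F) : Matrix ι ι F) = (A : Matrix ι ι F)ᵀ := rfl

theorem ctr_ctr (A : GL ι F) : ctr (ctr A) = A := by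
  apply Units.ext
  rw [coe_ctr, coe_ctr_inv, Matrix.transpose_transpose]

theorem sg_ctr (σ : F ≃+* F) (A : GL ι F) : sg σ (ctr A) = ctr (sg σ A) := by
  apply Units.ext
  rw [coe_sg, coe_ctr, coe_ctr, ← map_inv, coe_sg]
  rfl

theorem sg_sg {σ : F ≃+* F} (hσ2 : ∀ a, σ (σ a) = a) (A : GL ι F) : sg σ (sg σ A) = A := by
  apply Units.ext
  ext i j
  exact hσ2 _

theorem itr_mul_cj (A : GL ι F) : itr * cj A = cj (ctr A) * itr := by
  apply MulEquiv.ext
  intro g
  apply Subtype.ext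
  change (((cj A g)⁻¹ : Matrix.SpecialLinearGroup ι F) : Matrix ι ι F)ᵀ =
    (ctr A : Matrix ι ι F) * ((g⁻¹ : Matrix.SpecialLinearGroup ι F) : Matrix ι ι F)ᵀ *
      (((ctr A)⁻¹ : GL ι F) : Matrix ι ι F)
  rw [← map_inv, coe_cj, coe_ctr, coe_ctr_inv, Matrix.transpose_mul, Matrix.transpose_mul,
    Matrix.mul_assoc]

theorem fld_mul_itr (σ : F ≃+* F) : fld σ * itr = (itr * fld σ : MulAut (Matrix.SpecialLinearGroup ι F)) := by
  apply MulEquiv.ext
  intro g
  apply Subtype.ext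
  change ((((g⁻¹ : Matrix.SpecialLinearGroup ι F) : Matrix ι ι F)ᵀ).map σ) =
    (((fld σ g)⁻¹ : Matrix.SpecialLinearGroup ι F) : Matrix ι ι F)ᵀ
  rw [← map_inv]
  rfl

/-- The norm `A σ(A) ⋯ σ^{k-1}(A)`. -/
def nrm (σ : F ≃+* F) (A : GL ι F) : ℕ → GL ι F
  | 0 => 1
  | k + 1 => nrm σ A k * sg (σ ^ k) A

theorem pow_eq (σ : F ≃+* F) (A : GL ι F) (k : ℕ) :
    (cj A * fld σ) ^ k = cj (nrm σ A k) * fld (σ ^ k) := by
  induction k with
  | zero => simp [nrm]
  | succ k ih =>
    rw [pow_succ, ih, nrm, map_mul, pow_succ σ k, map_mul]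
    rw [show cj (nrm σ A k) * fld (σ ^ k) * (cj A * fld σ) =
      cj (nrm σ A k) * (fld (σ ^ k) * cj A) * fld σ from by group, fld_mul_cj]
    group

/-- The semilinear permutation `v ↦ A σ(v)`. -/
def perm (A : GL ι F) (σ : F ≃+* F) : Equiv.Perm (ι → F) where
  toFun v := (A : Matrix ι ι F) *ᵥ (fun i => σ (v i))
  invFun v := fun i => σ.symm ((((A⁻¹ : GL ι F) : Matrix _ _ F) *ᵥ v) i)
  left_inv v := by
    funext i
    simp only [Matrix.mulVec_mulVec]
    rw [← Units.val_mul, inv_mul_cancel]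
    simp
  right_inv v := by
    simp only [RingEquiv.apply_symm_apply]
    rw [Matrix.mulVec_mulVec, ← Units.val_mul, mul_inv_cancel]
    simp

theorem perm_apply (A : GL ι F) (σ : F ≃+* F) (v : ι → F) :
    perm A σ v = (A : Matrix ι ι F) *ᵥ (fun i => σ (v i)) := rfl

theorem map_mulVec (σ : F ≃+* F) (A : Matrix ι ι F) (v : ι → F) :
    (A.map σ) *ᵥ (fun i => σ (v i)) = fun i => σ ((A *ᵥ v) i) := by
  funext i
  simp [Matrix.mulVec, dotProduct, map_sum]

theorem semi_perm (A : GL ι F) (σ : F ≃+* F) : Semi (perm A σ) σ where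
  add u v := by
    rw [perm_apply, perm_apply, perm_apply, ← Matrix.mulVec_add]
    congr 1
    funext i
    simp
  smul a v := by
    rw [perm_apply, perm_apply, ← Matrix.mulVec_smul]
    congr 1
    funext i
    simp

theorem perm_pow (A : GL ι F) (σ : F ≃+* F) (k : ℕ) (v : ι → F) :
    (perm A σ ^ k) v = (nrm σ A k : Matrix ι ι F) *ᵥ (fun i => (σ ^ k) (v i)) := by
  induction k generalizing v with
  | zero => simp [nrm]
  | succ k ih =>
    rw [pow_succ, Equiv.Perm.mul_apply, ih, perm_apply, nrm, Units.val_mul, ← Matrix.mulVec_mulVec,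
      coe_sg, pow_succ σ k]
    congr 1
    exact (map_mulVec (σ ^ k) (A : Matrix ι ι F) (fun i => σ (v i))).symm

/-- A linear automorphism as a matrix. -/
noncomputable def ofEquiv (h : (ι → F) ≃ₗ[F] (ι → F)) : GL ι F where
  val := LinearMap.toMatrix' h.toLinearMap
  inv := LinearMap.toMatrix' h.symm.toLinearMap
  val_inv := by rw [← LinearMap.toMatrix'_comp, LinearEquiv.comp_symm, LinearMap.toMatrix'_id]
  inv_val := by rw [← LinearMap.toMatrix'_comp, LinearEquiv.symm_comp, LinearMap.toMatrix'_id]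

theorem ofEquiv_mulVec (h : (ι → F) ≃ₗ[F] (ι → F)) (v : ι → F) :
    (ofEquiv h : Matrix ι ι F) *ᵥ v = h v := by
  change LinearMap.toMatrix' h.toLinearMap *ᵥ v = h v
  rw [LinearMap.toMatrix'_mulVec]
  rfl

theorem cj_smul {A B : GL ι F} {c : Fˣ} (h : (A : Matrix ι ι F) = (c : F) • (B : Matrix ι ι F)) :
    cj A = cj B := by
  have h1 : cj (A * B⁻¹) = 1 := by
    apply cj_eq_one_of_scalar (r := (c : F))
    rw [Units.val_mul, h, Matrix.smul_mul, ← Units.val_mul, mul_inv_cancel, Units.val_one,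
      Matrix.smul_one_eq_diagonal]
    rfl
  rw [map_mul, map_inv, mul_inv_eq_one] at h1
  exact h1

/-- **Descent**: `A ∈ GL`, `N(A)` scalar. -/
theorem exists_conj [Finite F] [Nonempty ι] {σ : F ≃+* F} {ℓ : ℕ} (hσ : orderOf σ = ℓ) (hℓ : 0 < ℓ)
    {A : GL ι F} {s : F} (hs : Matrix.scalar ι s = (nrm σ A ℓ : Matrix ι ι F)) :
    ∃ (c : Fˣ) (H : GL ι F), (c : F) • (A : Matrix ι ι F) * (sg σ H : Matrix ι ι F) = (H : Matrix ι ι F) ∧
      cj A * fld σ = cj H * fld σ * (cj H)⁻¹ := by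
  have hs0 : s ≠ 0 := by
    rintro rfl
    rw [map_zero] at hs
    have h1 : (nrm σ A ℓ : Matrix ι ι F) * (((nrm σ A ℓ)⁻¹ : GL ι F) : Matrix ι ι F) = 1 := by
      rw [← Units.val_mul, mul_inv_cancel, Units.val_one]
    rw [← hs, zero_mul] at h1
    obtain ⟨i⟩ := ‹Nonempty ι›
    have h2 := congrFun (congrFun h1 i) i
    simp at h2
  have hσ1 : σ ^ ℓ = 1 := by rw [← hσ, pow_orderOf_eq_one]
  obtain ⟨c, hc⟩ := CpAut.Descent.exists_scale (semi_perm A σ) hσ hℓ (l := s) hs0 (fun v => by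
    rw [perm_pow, ← hs, hσ1]
    funext i
    simp [Matrix.mulVec_diagonal]) ⟨fun _ => 1, by
      obtain ⟨i⟩ := ‹Nonempty ι›
      intro h
      simpa using congrFun h i⟩
  have hsemi : Semi (CpAut.Descent.scal (ι → F) c * perm A σ) σ := by
    have := (CpAut.Descent.semi_scal (V := ι → F) c).mul (semi_perm A σ)
    rwa [one_mul] at this
  obtain ⟨h, hh⟩ := exists_linearEquiv hsemi hσ hℓ hc
  have h1 : (c : F) • (A : Matrix ι ι F) * (sg σ (ofEquiv h) : Matrix ι ι F) =
      (ofEquiv h : Matrix ι ι F) := by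
    rw [← Matrix.mulVec_injective.eq_iff]
    funext v
    have h2 := hh (fun i => σ.symm (v i))
    have h3 : frob ι σ (fun i => σ.symm (v i)) = v := by
      funext i
      exact σ.apply_symm_apply _
    rw [h3] at h2
    rw [ofEquiv_mulVec, ← h2, ← Matrix.mulVec_mulVec]
    rw [Equiv.Perm.mul_apply, CpAut.Descent.scal_apply, perm_apply, ← Matrix.smul_mulVec]
    congr 1
    rw [coe_sg]
    have h4 := map_mulVec σ (ofEquiv h : Matrix ι ι F) (fun i => σ.symm (v i))
    simp only [RingEquiv.apply_symm_apply] at h4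
    rw [h4]
    funext i
    rw [ofEquiv_mulVec]
  refine ⟨c, ofEquiv h, h1, ?_⟩
  have h5 : cj (ofEquiv h * (sg σ (ofEquiv h))⁻¹) = cj A := by
    apply cj_smul (c := c)
    rw [Units.val_mul, ← h1, Matrix.mul_assoc, ← Units.val_mul, mul_inv_cancel, Units.val_one, Matrix.mul_one]
  rw [← h5, map_mul, map_inv, mul_assoc, mul_assoc]
  congr 1
  rw [inv_mul_eq_iff_eq_mul, ← mul_assoc, ← fld_mul_cj, mul_inv_cancel_right]

end general

section carrier

variable {n : ℕ} {F : Type u} [Field F]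

theorem inner_iff {g : GL (Fin n) F} {β : MulAut (Matrix.ProjectiveSpecialLinearGroup (Fin n) F)} :
    (∀ s s' : Matrix.SpecialLinearGroup (Fin n) F,
    (s' : Matrix (Fin n) (Fin n) F) =
        ((g : GL (Fin n) F) : Matrix (Fin n) (Fin n) F) * (s : Matrix (Fin n) (Fin n) F) *
          ((g⁻¹ : GL (Fin n) F) : Matrix (Fin n) (Fin n) F) →
      β (QuotientGroup.mk s) = QuotientGroup.mk s') ↔ β = lift (cj g) := by
  constructor
  · intro h
    apply MulEquiv.ext
    intro x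
    obtain ⟨x, rfl⟩ := pr_surjective x
    rw [lift_pr]
    exact h x (cj g x) rfl
  · rintro rfl s s' h
    have : s' = cj g s := Subtype.ext h
    rw [this]
    rfl

theorem std_iff {σ : F ≃+* F} {β : MulAut (Matrix.ProjectiveSpecialLinearGroup (Fin n) F)} :
    IsStdFieldAutPSL σ β ↔ β = lift (fld σ) := by
  constructor
  · intro h
    apply MulEquiv.ext
    intro x
    obtain ⟨x, rfl⟩ := pr_surjective x
    rw [lift_pr]
    exact h x (fld σ x) rfl
  · rintro rfl s s' h
    have : s' = fld σ s := Subtype.ext h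
    rw [this]
    rfl

theorem invTranspose_iff {β : MulAut (Matrix.ProjectiveSpecialLinearGroup (Fin n) F)} :
    IsInverseTransposeAutPSL β ↔ β = lift itr := by
  constructor
  · intro h
    apply MulEquiv.ext
    intro x
    obtain ⟨x, rfl⟩ := pr_surjective x
    rw [lift_pr]
    exact h x (itr x) rfl
  · rintro rfl s s' h
    have : s' = itr s := Subtype.ext h
    rw [this]
    rfl

/-- The image of `GL` in the automorphism group of `PSL`. -/
def img (n : ℕ) (F : Type u) [Field F] : Subgroup (MulAut (Matrix.ProjectiveSpecialLinearGroup (Fin n) F)) :=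
  (lift.comp cj : GL (Fin n) F →* _).range

theorem inndiag_eq : inndiagPSL n F = img n F := by
  have h1 : {β : MulAut (Matrix.ProjectiveSpecialLinearGroup (Fin n) F) | IsInnerDiagonalAutPSL β} =
      (img n F : Set _) := by
    ext β
    constructor
    · rintro ⟨g, hg⟩
      exact ⟨g, (inner_iff.1 hg).symm⟩
    · rintro ⟨g, rfl⟩
      exact ⟨g, inner_iff.2 rfl⟩
  unfold inndiagPSL autSubgroupOf
  rw [h1, Subgroup.closure_eq]

theorem mem_inndiag {β : MulAut (Matrix.ProjectiveSpecialLinearGroup (Fin n) F)} :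
    β ∈ inndiagPSL n F ↔ ∃ A : GL (Fin n) F, lift (cj A) = β := by
  rw [inndiag_eq]; rfl

/-- Every automorphism is `lift e` with `e` normalising the image of `GL` in `Aut(SL)`. -/
theorem exists_lift [Finite F] (hn : 2 ≤ n) (α : MulAut (Matrix.ProjectiveSpecialLinearGroup (Fin n) F)) :
    ∃ (A : GL (Fin n) F) (σ : F ≃+* F), α = lift (cj A * fld σ) ∨ α = lift (cj A * fld σ * itr) := by
  obtain ⟨p, hp⟩ := CharP.exists F
  have hpp : Fact p.Prime := ⟨CharP.char_is_prime F p⟩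
  have := Fintype.ofFinite F
  by_cases h3 : 3 ≤ n
  · rcases surj_three p h3 α with ⟨A, σ, h⟩ | ⟨A, σ, h⟩
    · exact ⟨A, σ, Or.inl h⟩
    · exact ⟨A, σ, Or.inr h⟩
  · obtain rfl : n = 2 := by omega
    obtain ⟨A, σ, h⟩ := surj_two p α
    exact ⟨A, σ, Or.inl h⟩

theorem inndiag_normal [Finite F] (hn : 2 ≤ n) : (inndiagPSL n F).Normal := by
  refine ⟨fun β hβ α => ?_⟩
  obtain ⟨B, rfl⟩ := mem_inndiag.1 hβ
  obtain ⟨A, σ, h | h⟩ := exists_lift hn α
  · refine mem_inndiag.2 ⟨A * sg σ B * A⁻¹, ?_⟩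
    rw [h, ← map_mul, ← map_inv, ← map_mul]
    congr 1
    rw [mul_assoc (cj A), fld_mul_cj, map_mul, map_mul, map_inv]
    group
  · refine mem_inndiag.2 ⟨A * sg σ (ctr B) * A⁻¹, ?_⟩
    rw [h, ← map_mul, ← map_inv, ← map_mul]
    congr 1
    rw [mul_assoc (cj A * fld σ), itr_mul_cj, mul_assoc (cj A), ← mul_assoc (fld σ), fld_mul_cj, map_mul, map_mul,
      map_inv]
    group

end carrier

end Cfsg.Agent.H966.PSLAut
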