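import Cfsg.Agent.H966.PairNum
import Cfsg.Agent.H568.RowTools_m3
import Cfsg.Agent.H713.Spor.B
import Cfsg.Agent.MonsterX.InstanceFinal_m3
import Cfsg.Agent.H850.MonSub
import Cfsg.Agent.MonsterU.Uncond
import Cfsg.Agent.S5534
import Cfsg.Agent.S2085
import Cfsg.Agent.FastGrp
import Cfsg.Agent.Prune
set_option linter.all false
prune_inst 0x7f00000000000000000000000000000000000000000000000000000000000000000000000000000000000000000000000000000000000000000000000000000000000000000000000000000000000000003fffffffffffffffffffffffffffbeffbdffffffff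
open scoped Cfsg.Agent.FastGrp

-- part: H966/TwoOne
section
/-!
# Involutions which are self-centralizing among the 2-elements (helper966)

`inv_or_comm` : `t` an involution of the finite group `C` such that the only 2-elements commuting with `t` are `1`
and `t`, `b` an odd prime dividing the order of `C` exactly once. Then `t` centralises or inverts an element of
order `b`.

`no_order` : `t` an involution of `S`, `a` a prime dividing the order of `C(t)`, `b ∤ |C(t)|`, the only 2-elements of
`C(t)` commuting with an element of order `a` of `C(t)` are `1` and `t`, no product of two conjugates of `t` has order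
`b`. Then `S` has no element of order `a b`.
-/

set_option autoImplicit false

namespace Cfsg.Agent.H966.TwoOne

open Subgroup

/-- The Frattini step: elements. -/
theorem frattini_elts {D : Type*} [Group D] [Finite D] {l m : ℕ} (hl : l.Prime) (hm : m.Prime)
    (N : Subgroup D) [N.Normal] (h1 : l ∣ Nat.card N) (h2 : ¬ l ^ 2 ∣ Nat.card D)
    (h3 : m ∣ Nat.card D) (h4 : ¬ m ∣ Nat.card N) :
    ∃ y c : D, orderOf y = m ∧ orderOf c = l ∧ y * c * y⁻¹ ∈ zpowers c := by
  have hfl : Fact l.Prime := ⟨hl⟩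
  have hfm : Fact m.Prime := ⟨hm⟩
  obtain ⟨P⟩ : Nonempty (Sylow l N) := inferInstance
  set Q : Subgroup D := (P : Subgroup N).map N.subtype with hQ
  have hPQ : Nat.card Q = Nat.card (P : Subgroup N) :=
    Nat.card_congr ((P : Subgroup N).equivMapOfInjective _ N.subtype_injective).symm.toEquiv
  have hsup : normalizer (Q : Set D) ⊔ N = ⊤ := Sylow.normalizer_sup_eq_top P
  have h5 : m ∣ Nat.card (D ⧸ N) := by
    have h6 := N.card_eq_card_quotient_mul_card_subgroup
    rw [h6] at h3
    exact (hm.dvd_mul.1 h3).resolve_right h4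
  have h6 : m ∣ Nat.card ↥(normalizer (Q : Set D)) := by
    refine h5.trans ?_
    refine Subgroup.card_dvd_of_surjective ((QuotientGroup.mk' N).comp (normalizer (Q : Set D)).subtype) ?_
    intro x
    obtain ⟨g, rfl⟩ := QuotientGroup.mk'_surjective N x
    have hg : g ∈ normalizer (Q : Set D) ⊔ N := hsup ▸ mem_top g
    obtain ⟨y, hy, z, hz, rfl⟩ := Subgroup.mem_sup_of_normal_right.1 hg
    refine ⟨⟨y, hy⟩, ?_⟩
    show QuotientGroup.mk' N y = QuotientGroup.mk' N (y * z)
    rw [map_mul, (show QuotientGroup.mk' N z = 1 from (QuotientGroup.eq_one_iff z).2 hz), mul_one]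
  obtain ⟨⟨y, hyN⟩, hy⟩ := exists_prime_orderOf_dvd_card' m h6
  have hy' : orderOf y = m := by rw [← hy]; exact (Subgroup.orderOf_mk y hyN).symm
  have h7 : l ∣ Nat.card Q := by
    rw [hPQ]
    exact P.dvd_card_of_dvd_card h1
  obtain ⟨⟨c, hcQ⟩, hc⟩ := exists_prime_orderOf_dvd_card' l h7
  have hc' : orderOf c = l := by rw [← hc]; exact (Subgroup.orderOf_mk c hcQ).symm
  have hQp : IsPGroup l Q := by
    rw [hQ]
    exact P.isPGroup'.map _
  have hQl : Nat.card Q = l := by
    obtain ⟨k, hk⟩ := IsPGroup.iff_card.1 hQp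
    have hk1 : k = 1 := by
      by_contra hne
      rcases Nat.eq_zero_or_pos k with h0 | h0
      · rw [hk, h0, pow_zero] at h7
        exact hl.one_lt.ne' (Nat.dvd_one.1 h7)
      · exact h2 (((pow_dvd_pow l (by omega : 2 ≤ k)).trans (dvd_of_eq hk.symm)).trans
          (Subgroup.card_subgroup_dvd_card Q))
    rw [hk, hk1, pow_one]
  have hQz : zpowers c = Q := by
    refine Subgroup.eq_of_le_of_card_ge ?_ ?_
    · rwa [zpowers_le]
    · rw [Nat.card_zpowers, hc', hQl]
  exact ⟨y, c, hy', hc', hQz ▸ (mem_normalizer_iff.1 hyN c).1 hcQ⟩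

/-- An involution self-centralizing among the 2-elements centralises or inverts an element of order `b`. -/
theorem inv_or_comm {C : Type*} [Group C] [Finite C] {t : C} (ht : orderOf t = 2)
    (hself : ∀ u : C, u * t = t * u → (∃ k : ℕ, u ^ 2 ^ k = 1) → u = 1 ∨ u = t) {b : ℕ} (hb : b.Prime)
    (hb2 : b ≠ 2) (h1 : b ∣ Nat.card C) (h2 : ¬ b ^ 2 ∣ Nat.card C) :
    ∃ c : C, orderOf c = b ∧ (t * c = c * t ∨ t * c * t⁻¹ = c⁻¹) := by
  classical
  have hf2 : Fact (Nat.Prime 2) := ⟨Nat.prime_two⟩
  have htp : IsPGroup 2 ↥(zpowers t) := IsPGroup.of_card (n := 1) (by rw [Nat.card_zpowers, ht, pow_one])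
  obtain ⟨T, hT⟩ := htp.exists_le_sylow
  have htT : t ∈ (T : Subgroup C) := hT (mem_zpowers t)
  have ht1 : t ≠ 1 := by
    rintro rfl
    rw [orderOf_one] at ht
    exact absurd ht (by norm_num)
  have hpow : ∀ u : (T : Subgroup C), ∃ k : ℕ, (u : C) ^ 2 ^ k = 1 := fun u => by
    obtain ⟨k, hk⟩ := T.isPGroup' u
    exact ⟨k, by simpa only [_root_.SubmonoidClass.coe_pow, _root_.OneMemClass.coe_one] using congrArg Subtype.val hk⟩
  -- `t` is central in `T`
  have hcen : ∀ u ∈ (T : Subgroup C), u * t = t * u := by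
    have hnt : Nontrivial (T : Subgroup C) := ⟨⟨⟨t, htT⟩, 1, fun h => ht1 (congrArg Subtype.val h)⟩⟩
    have hzn := T.isPGroup'.center_nontrivial
    obtain ⟨⟨z, hz⟩, hz1⟩ := exists_ne (1 : center (T : Subgroup C))
    have hz2 : (z : C) * t = t * z := congrArg Subtype.val (mem_center_iff.1 hz ⟨t, htT⟩).symm
    rcases hself z hz2 (hpow z) with h | h
    · exact absurd (Subtype.ext (Subtype.ext h)) hz1
    · intro u hu
      have h3 := congrArg Subtype.val (mem_center_iff.1 hz ⟨u, hu⟩)
      rw [← h]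
      exact h3
  have hTe : (T : Subgroup C) = zpowers t := by
    refine le_antisymm ?_ hT
    intro u hu
    rcases hself u (hcen u hu) (hpow ⟨u, hu⟩) with h | h
    · rw [h]; exact one_mem _
    · rw [h]; exact mem_zpowers t
  have hTc : IsCyclic ↥(T : Subgroup C) := by rw [hTe]; infer_instance
  have hT2 : Nat.card (T : Subgroup C) = 2 := by rw [hTe, Nat.card_zpowers, ht]
  have h2C : 2 ∣ Nat.card C := hT2 ▸ Subgroup.card_subgroup_dvd_card _
  have hmin : (Nat.card C).minFac = 2 := (Nat.minFac_eq_two_iff _).2 h2C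
  have hcomp := IsCyclic.isComplement' hmin hTc
  set O := (MonoidHom.transferSylow T (hTc.normalizer_le_centralizer hmin)).ker with hO
  have hOc : Nat.card O * 2 = Nat.card C := by
    have := hcomp.card_mul_card
    rwa [hT2] at this
  have hO2 : ¬ 2 ∣ Nat.card O := by
    intro h
    have h5 : ¬ 2 ∣ (T : Subgroup C).index := T.not_dvd_index
    have h6 := (T : Subgroup C).card_mul_index
    rw [hT2, ← hOc, mul_comm] at h6
    exact h5 ((Nat.eq_of_mul_eq_mul_right (by norm_num) h6) ▸ h)
  have hbO : b ∣ Nat.card O := by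
    rw [← hOc] at h1
    exact (hb.dvd_mul.1 h1).resolve_right fun h => hb2 ((Nat.prime_dvd_prime_iff_eq hb Nat.prime_two).1 h)
  obtain ⟨y, c, hy, hc, hyc⟩ := frattini_elts hb Nat.prime_two O hbO h2 h2C hO2
  -- `y` is conjugate to `t`
  have hyp : IsPGroup 2 ↥(zpowers y) := IsPGroup.of_card (n := 1) (by rw [Nat.card_zpowers, hy, pow_one])
  obtain ⟨R, hR⟩ := hyp.exists_le_sylow
  obtain ⟨w, hw⟩ := MulAction.exists_smul_eq C R T
  have hwy : w * y * w⁻¹ = t := by
    have h5 : w * y * w⁻¹ ∈ (T : Subgroup C) := by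
      rw [← hw, Sylow.smul_def]
      exact smul_mem_pointwise_smul _ _ _ (hR (mem_zpowers y))
    have h6 : orderOf (w * y * w⁻¹) = 2 := by
      rw [← hy]
      exact MulEquiv.orderOf_eq (MulAut.conj w) y
    rcases hself _ (hcen _ h5) (hpow ⟨_, h5⟩) with h | h
    · rw [h, orderOf_one] at h6
      exact absurd h6 (by norm_num)
    · exact h
  refine ⟨w * c * w⁻¹, ?_, ?_⟩
  · rw [← hc]
    exact MulEquiv.orderOf_eq (MulAut.conj w) c
  · obtain ⟨k, hk⟩ := hyc
    set c' := w * c * w⁻¹ with hc'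
    have hc'o : orderOf c' = b := by
      rw [← hc]
      exact MulEquiv.orderOf_eq (MulAut.conj w) c
    have h5 : t * c' * t⁻¹ = c' ^ k := by
      have h6 : y * c * y⁻¹ = c ^ k := hk.symm
      rw [← hwy, hc', conj_zpow, ← h6]
      group
    have h6 : t * (t * c' * t⁻¹) * t⁻¹ = c' := by
      have h7 : t * t = 1 := by rw [← pow_two, ← ht, pow_orderOf_eq_one]
      have h8 : t⁻¹ * t⁻¹ = 1 := by rw [← mul_inv_rev, h7, inv_one]
      calc t * (t * c' * t⁻¹) * t⁻¹ = (t * t) * c' * (t⁻¹ * t⁻¹) := by group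
        _ = c' := by rw [h7, h8, one_mul, mul_one]
    rw [h5, ← conj_zpow, h5, ← zpow_mul] at h6
    have h7 : c' ^ (k * k - 1) = 1 := by
      rw [zpow_sub, h6, zpow_one, mul_inv_cancel]
    have h8 : (b : ℤ) ∣ k * k - 1 := by
      rw [← hc'o]
      exact orderOf_dvd_iff_zpow_eq_one.2 h7
    have h9 : (b : ℤ) ∣ (k - 1) * (k + 1) := by
      have : (k - 1) * (k + 1) = k * k - 1 := by ring
      rwa [this]
    rcases (Nat.prime_iff_prime_int.1 hb).dvd_or_dvd h9 with h | h
    · left
      have h10 : c' ^ (k - 1) = 1 := orderOf_dvd_iff_zpow_eq_one.1 (by rw [hc'o]; exact h)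
      have h11 : c' ^ k = c' := by
        have : c' ^ k = c' ^ (k - 1) * c' := by rw [← zpow_add_one]; congr 1; ring
        rw [this, h10, one_mul]
      rw [h11] at h5
      exact mul_inv_eq_iff_eq_mul.1 h5
    · right
      have h10 : c' ^ (k + 1) = 1 := orderOf_dvd_iff_zpow_eq_one.1 (by rw [hc'o]; exact h)
      rw [h5]
      rw [zpow_add_one] at h10
      exact eq_inv_of_mul_eq_one_left h10

/-- `S` has no element of order `a b`. -/
theorem no_order {S : Type*} [Group S] [Finite S] {t : S} (ht : orderOf t = 2) {a b : ℕ} (ha : a.Prime)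
    (hb : b.Prime) (hb2 : b ≠ 2) (hab : a ≠ b) (da : ¬ a ^ 2 ∣ Nat.card S) (db : ¬ b ^ 2 ∣ Nat.card S)
    (h1 : a ∣ Nat.card ↥(centralizer ({t} : Set S))) (h2 : ¬ b ∣ Nat.card ↥(centralizer ({t} : Set S)))
    (h3 : ∀ x u : S, orderOf x = a → x * t = t * x → x * u = u * x → u * t = t * u → (∃ k : ℕ, u ^ 2 ^ k = 1) →
      u = 1 ∨ u = t)
    (h4 : ∀ g : S, orderOf (t * (g * t * g⁻¹)) ≠ b) : ∀ g : S, orderOf g ≠ a * b := by
  intro g hg
  have hfa : Fact a.Prime := ⟨ha⟩
  -- elements of orders `a` and `b`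
  have hgb : orderOf (g ^ b) = a := by
    rw [orderOf_pow' g hb.ne_zero, hg, Nat.gcd_eq_right (Dvd.intro_left _ rfl), Nat.mul_div_cancel _ hb.pos]
  have hga : orderOf (g ^ a) = b := by
    rw [orderOf_pow' g ha.ne_zero, hg, Nat.gcd_eq_right (Dvd.intro _ rfl), Nat.mul_div_cancel_left _ ha.pos]
  -- an element of order `a` commuting with `t`, generating the same subgroup up to conjugacy
  obtain ⟨⟨v, hvC⟩, hv⟩ := exists_prime_orderOf_dvd_card' a h1
  have hv' : orderOf v = a := by rw [← hv]; exact (Subgroup.orderOf_mk v hvC).symm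
  have hvt : v * t = t * v := mem_centralizer_singleton_iff.1 hvC
  have hsyl : ∀ z : S, orderOf z = a → ∃ P : Sylow a S, (P : Subgroup S) = zpowers z := by
    intro z hz
    have hzp : IsPGroup a ↥(zpowers z) := IsPGroup.of_card (n := 1) (by rw [Nat.card_zpowers, hz, pow_one])
    obtain ⟨P, hP⟩ := hzp.exists_le_sylow
    refine ⟨P, (Subgroup.eq_of_le_of_card_ge hP ?_).symm⟩
    rw [Nat.card_zpowers, hz]
    obtain ⟨k, hk⟩ := IsPGroup.iff_card.1 P.isPGroup'
    rw [hk]
    have hk1 : k ≤ 1 := by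
      by_contra hne
      exact da (((pow_dvd_pow a (by omega : 2 ≤ k)).trans (dvd_of_eq hk.symm)).trans
        (Subgroup.card_subgroup_dvd_card _))
    calc a ^ k ≤ a ^ 1 := Nat.pow_le_pow_right ha.pos hk1
      _ = a := pow_one a
  obtain ⟨P, hP⟩ := hsyl _ hgb
  obtain ⟨R, hR⟩ := hsyl _ hv'
  obtain ⟨w, hw⟩ := MulAction.exists_smul_eq S P R
  have hwx : w * g ^ b * w⁻¹ ∈ zpowers v := by
    rw [← hR, ← hw, Sylow.smul_def]
    exact smul_mem_pointwise_smul _ _ _ (hP ▸ mem_zpowers _)
  set x := w * g ^ b * w⁻¹ with hx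
  set y := w * g ^ a * w⁻¹ with hy
  have hxo : orderOf x = a := by rw [← hgb]; exact MulEquiv.orderOf_eq (MulAut.conj w) _
  have hyo : orderOf y = b := by rw [← hga]; exact MulEquiv.orderOf_eq (MulAut.conj w) _
  have hxy : x * y = y * x := by
    have h5 : g ^ b * g ^ a = g ^ a * g ^ b := by rw [← pow_add, ← pow_add, add_comm]
    rw [hx, hy]
    calc w * g ^ b * w⁻¹ * (w * g ^ a * w⁻¹) = w * (g ^ b * g ^ a) * w⁻¹ := by group
      _ = w * (g ^ a * g ^ b) * w⁻¹ := by rw [h5]
      _ = w * g ^ a * w⁻¹ * (w * g ^ b * w⁻¹) := by group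
  have hxt : x * t = t * x := by
    obtain ⟨k, hk⟩ := hwx
    have h5 : v ^ k = x := hk
    rw [← h5]
    exact ((show Commute v t from hvt).zpow_left k).eq
  -- the centralizer of `x`
  set C := centralizer ({x} : Set S) with hC
  have htC : t ∈ C := mem_centralizer_singleton_iff.2 hxt.symm
  have hyC : y ∈ C := mem_centralizer_singleton_iff.2 hxy.symm
  obtain ⟨c, hc, hct⟩ := inv_or_comm (C := C) (t := ⟨t, htC⟩) (by rw [Subgroup.orderOf_mk, ht]) (by
    rintro ⟨u, hu⟩ hut ⟨k, hk⟩
    have hu1 : x * u = u * x := (mem_centralizer_singleton_iff.1 hu).symm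
    have hu2 : u * t = t * u := congrArg Subtype.val hut
    have hu3 : u ^ 2 ^ k = 1 := by simpa only [_root_.SubmonoidClass.mk_pow, _root_.OneMemClass.coe_one] using congrArg Subtype.val hk
    rcases h3 x u hxo hxt hu1 hu2 ⟨k, hu3⟩ with h | h
    · exact Or.inl (Subtype.ext h)
    · exact Or.inr (Subtype.ext h)) hb hb2
    (by rw [← hyo, ← Subgroup.orderOf_mk y hyC]; exact orderOf_dvd_natCard _)
    (fun h => db (h.trans (Subgroup.card_subgroup_dvd_card C)))
  have hcS : orderOf (c : S) = b := by rw [Subgroup.orderOf_coe, hc]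
  rcases hct with h | h
  · apply h2
    have h5 : (c : S) ∈ centralizer ({t} : Set S) :=
      mem_centralizer_singleton_iff.2 (congrArg Subtype.val h).symm
    rw [← hcS, ← Subgroup.orderOf_mk _ h5]
    exact orderOf_dvd_natCard _
  · have h5 : t * (c : S) * t⁻¹ = (c : S)⁻¹ := congrArg Subtype.val h
    apply h4 (c : S)⁻¹
    have htt : t⁻¹ = t := by
      rw [inv_eq_iff_mul_eq_one, ← pow_two, ← ht, pow_orderOf_eq_one]
    have h6 : t * ((c : S)⁻¹ * t * (c : S)⁻¹⁻¹) = (c : S) ^ 2 := by
      have h7 : t * (c : S)⁻¹ * t⁻¹ = (c : S) := by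
        have h8 : (t * (c : S) * t⁻¹)⁻¹ = (c : S) := by rw [h5, inv_inv]
        calc t * (c : S)⁻¹ * t⁻¹ = (t * (c : S) * t⁻¹)⁻¹ := by group
          _ = (c : S) := h8
      calc t * ((c : S)⁻¹ * t * (c : S)⁻¹⁻¹) = (t * (c : S)⁻¹ * t) * c := by group
        _ = (t * (c : S)⁻¹ * t⁻¹) * c := by rw [htt]
        _ = (c : S) ^ 2 := by rw [h7, pow_two]
    rw [h6, orderOf_pow, hcS]
    have h7 : Nat.gcd b 2 = 1 := (Nat.coprime_primes hb Nat.prime_two).2 hb2
    rw [h7, Nat.div_one]

end Cfsg.Agent.H966.TwoOne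
end

-- part: H966/RowM
section
/-!
# The row of the Monster (S4329; helper966)
-/

set_option autoImplicit false

namespace Cfsg.Agent.H966.RowM

open Subgroup Cfsg Cfsg.Agent.H568 Cfsg.Agent.OrdDiv
open Cfsg.Agent.MonsterX.Model Cfsg.Agent.MonsterX.MainPack
  Cfsg.Agent.MonsterX.MainSimple Cfsg.Agent.MonsterX.MainBasic Cfsg.Agent.MonsterU.Assembly

universe u

/-- Every automorphism is inner if the outer automorphism group is trivial. -/
theorem inner_of_out {S : Type*} [Group S] (h : Nat.card (Cfsg.Out S) = 1) (a : MulAut S) :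
    ∃ s : S, a = MulAut.conj s := by
  have h1 := (Nat.card_eq_one_iff_unique.1 h).1
  have h2 : (QuotientGroup.mk a : Cfsg.Out S) = QuotientGroup.mk 1 := Subsingleton.elim _ _
  rw [QuotientGroup.eq] at h2
  obtain ⟨s, hs⟩ := h2
  refine ⟨s⁻¹, ?_⟩
  rw [map_inv, hs]
  group

theorem card_center {H K : Type*} [Group H] [Group K] (h : IsNonsplitDoubleCover H K) :
    Nat.card H = 2 * Nat.card K := by
  obtain ⟨h1, ⟨e⟩, -⟩ := h
  rw [(center H).card_eq_card_quotient_mul_card_subgroup, h1, Nat.card_congr e.toEquiv, mul_comm]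

/-- The involution `y` of `S5534` is a `6`-transposition. -/
theorem six {y : Spor.Monster} (hy : orderOf y = 2)
    (hc : Nat.card ↥(centralizer ({y} : Set Spor.Monster)) = 2 * 4154781481226426191177580544000000)
    (g : Spor.Monster) : orderOf (y * (g * y * g⁻¹)) ≤ 6 := by
  have A := Cfsg.Agent.MonsterU.Uncond.all
  obtain ⟨f⟩ := Cfsg.Agent.MonsterP.Equiv.equiv
  have hy1 : f y ≠ 1 := by
    intro h
    rw [map_eq_one_iff f f.injective] at h
    rw [h, orderOf_one] at hy
    exact absurd hy (by norm_num)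
  have hyy : f y * f y = 1 := by
    rw [← map_mul, ← pow_two, ← hy, pow_orderOf_eq_one, map_one]
  have hcard : Nat.card ↥(centralizer ({f y} : Set _)) = 2 * 4154781481226426191177580544000000 := by
    rw [← hc]
    refine Nat.card_congr (Equiv.subtypeEquiv f.toEquiv ?_).symm
    intro a
    rw [mem_centralizer_singleton_iff, mem_centralizer_singleton_iff]
    show _ ↔ f a * f y = f y * f a
    rw [← map_mul, ← map_mul, f.injective.eq_iff]
  rcases A.classes (f y) hyy hy1 with ⟨w, hw⟩ | ⟨w, hw⟩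
  · exfalso
    rw [Cfsg.Agent.Blocks.SylowIn.card_centralizer_of_isConj (isConj_iff.2 ⟨w, hw⟩),
      Cfsg.Agent.H713.Spor.MOf.card_cent_z A.hG A.hR A.hL A.hO A.hT] at hcard
    exact absurd hcard (by norm_num)
  · have h6 := MonsterX.MainPack.six A.hG A.hR A.hL A.hO A.hT
      Cfsg.Agent.MonsterX.InstanceFinal.mExtra.order_le (w⁻¹ * f g * w)
    have h7 : f (y * (g * y * g⁻¹)) =
        w * (tG A.hG A.hR * ((w⁻¹ * f g * w) * tG A.hG A.hR * (w⁻¹ * f g * w)⁻¹)) * w⁻¹ := by
      rw [map_mul, map_mul, map_mul, map_inv, ← hw]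
      group
    have h8 : orderOf (y * (g * y * g⁻¹)) = orderOf (f (y * (g * y * g⁻¹))) :=
      (MulEquiv.orderOf_eq f _).symm
    rw [h8, h7]
    exact (MulEquiv.orderOf_eq (MulAut.conj w) _).trans_le h6

theorem card_m : Nat.card Spor.Monster = 808017424794512875886459904961710757005754368000000000 :=
  Cfsg.Agent.MonsterP.Equiv.isM.2

theorem finite_m : Finite Spor.Monster := Nat.finite_of_card_ne_zero (by rw [card_m]; norm_num)

/-- The Monster has no element of order `47 · 59`. -/
theorem no_order (g : Spor.Monster) : orderOf g ≠ 47 * 59 := by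
  classical
  have := finite_m
  have hfB : Finite Spor.BabyMonster := CTwoTab.BInst.finite_B
  obtain ⟨y, hy, hyc⟩ := Cfsg.Agent.S5534.result
  have hcard : Nat.card ↥(centralizer ({y} : Set Spor.Monster)) = 2 * 4154781481226426191177580544000000 := by
    rw [card_center hyc, Cfsg.Agent.H713.Spor.B.card_b]
  refine TwoOne.no_order hy (by norm_num) (by norm_num) (by norm_num) (by norm_num) ?_ ?_ ?_ ?_ ?_ ?_ g
  · rw [card_m]; norm_num
  · rw [card_m]; norm_num
  · rw [hcard]; norm_num
  · rw [hcard]; norm_num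
  · intro x u hx hxy hxu huy ⟨k, hk⟩
    obtain ⟨hZ, ⟨e⟩, -⟩ := hyc
    set C := centralizer ({y} : Set Spor.Monster) with hC
    -- the centre of `C` is `⟨y⟩`
    have hyC : y ∈ C := mem_centralizer_singleton_iff.2 rfl
    have hxC : x ∈ C := mem_centralizer_singleton_iff.2 hxy
    have huC : u ∈ C := mem_centralizer_singleton_iff.2 huy
    have hyZ : (⟨y, hyC⟩ : C) ∈ center C := by
      rw [mem_center_iff]
      intro c
      exact Subtype.ext (mem_centralizer_singleton_iff.1 c.2)
    have hzc : zpowers (⟨y, hyC⟩ : C) = center C := by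
      refine Subgroup.eq_of_le_of_card_ge ?_ ?_
      · rwa [zpowers_le]
      · rw [Nat.card_zpowers, Subgroup.orderOf_mk, hy, hZ]
    let π : C →* Spor.BabyMonster := e.toMonoidHom.comp (QuotientGroup.mk' (center C))
    have hπ : ∀ c : C, π c = 1 → c ∈ center C := by
      intro c hc
      have h1 : e (QuotientGroup.mk' (center C) c) = 1 := hc
      rw [map_eq_one_iff e e.injective] at h1
      exact (QuotientGroup.eq_one_iff c).1 h1
    by_cases hu : π ⟨u, huC⟩ = 1
    · -- `u` is in `⟨y⟩`
      have h1 := hπ _ hu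
      rw [← hzc] at h1
      have h2 : u ∈ zpowers y := by
        obtain ⟨m, hm⟩ := h1
        exact ⟨m, by simpa using congrArg Subtype.val hm⟩
      rw [mem_zpowers_iff_mem_range_orderOf (x := y)] at h2
      rw [hy] at h2
      simp only [Finset.mem_image, Finset.mem_range] at h2
      obtain ⟨m, hm, rfl⟩ := h2
      interval_cases m
      · left; exact pow_zero y
      · right; exact pow_one y
    · exfalso
      -- an involution commuting with the image of `x`
      set v := π ⟨u, huC⟩ with hv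
      have hvk : v ^ 2 ^ k = 1 := by
        rw [hv, ← map_pow]
        have : (⟨u, huC⟩ : C) ^ 2 ^ k = 1 := Subtype.ext (by simpa only [_root_.SubmonoidClass.mk_pow, _root_.OneMemClass.coe_one] using hk)
        rw [this, map_one]
      obtain ⟨j, -, hj⟩ := (Nat.dvd_prime_pow Nat.prime_two).1 (orderOf_dvd_of_pow_eq_one hvk)
      have hj0 : j ≠ 0 := by
        rintro rfl
        rw [pow_zero, orderOf_eq_one_iff] at hj
        exact hu hj
      obtain ⟨i, rfl⟩ := Nat.exists_eq_succ_of_ne_zero hj0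
      have hw : orderOf (v ^ 2 ^ i) = 2 := by
        rw [orderOf_pow_of_dvd (pow_ne_zero _ (by norm_num)) (by rw [hj]; exact pow_dvd_pow _ (Nat.le_succ _)), hj,
          Nat.pow_div (Nat.le_succ _) (by norm_num)]
        simp
      have hx1 : orderOf (π ⟨x, hxC⟩) = 47 := by
        have h1 : orderOf (π ⟨x, hxC⟩) ∣ 47 := by
          rw [← hx, ← Subgroup.orderOf_mk x hxC]
          exact orderOf_map_dvd π _
        rcases (Nat.dvd_prime (by norm_num)).1 h1 with h | h
        · exfalso
          have h2 := hπ _ (orderOf_eq_one_iff.1 h)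
          have h3 : orderOf x ∣ Nat.card (center C) := by
            have h4 : orderOf (⟨⟨x, hxC⟩, h2⟩ : center C) = orderOf x := by
              rw [Subgroup.orderOf_mk, Subgroup.orderOf_mk]
            rw [← h4]
            exact orderOf_dvd_natCard _
          rw [hx, hZ] at h3
          exact absurd h3 (by norm_num)
        · exact h
      have hcomm : π ⟨x, hxC⟩ * v = v * π ⟨x, hxC⟩ := by
        rw [hv, ← map_mul, ← map_mul]
        congr 1
        exact Subtype.ext hxu
      have hmem : π ⟨x, hxC⟩ ∈ centralizer ({v ^ 2 ^ i} : Set Spor.BabyMonster) :=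
        mem_centralizer_singleton_iff.2 ((show Commute (π ⟨x, hxC⟩) v from hcomm).pow_right _).eq
      have hd : 47 ∣ Nat.card ↥(centralizer ({v ^ 2 ^ i} : Set Spor.BabyMonster)) := by
        rw [← hx1, ← Subgroup.orderOf_mk _ hmem]
        exact orderOf_dvd_natCard _
      rcases Cfsg.Agent.H713.Spor.B.dvd_cases (by norm_num) (by norm_num) hw hd with h | h
      · exact absurd h (by norm_num)
      · exact absurd h (by norm_num)
  · intro g' hg'
    have := six hy hcard g'
    omega

theorem simple_m : IsSimpleGroup Spor.Monster := Cfsg.Agent.MonsterP.Equiv.isM.1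

/-- **The row of the Monster.** -/
theorem row_monster (hK : ∀ (T : Type) [Group T] [Finite T] [IsSimpleGroup T], IsKnownSimple' T)
    (T : OrderTable.{0}) (p : ℕ) [hp : Fact p.Prime] (hp2 : p ≠ 2) : H568.Row p Spor.Monster := by
  have := finite_m
  have := simple_m
  have hna : ¬ IsMulCommutative Spor.Monster := by
    intro h
    let _ : CommGroup Spor.Monster := { (inferInstance : Group Spor.Monster) with mul_comm := h.is_comm.comm }
    have h1 : (Nat.card Spor.Monster).Prime := IsSimpleGroup.prime_card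
    rw [card_m] at h1
    exact absurd ((Nat.prime_dvd_prime_iff_eq Nat.prime_two h1).1 (by norm_num)) (by norm_num)
  exact PairNum.row_of_pairAll hK T hp2 (center_eq_bot hna)
    (fun a _ => inner_of_out Cfsg.Agent.S2085.result a) PairNum.m_valid card_m (a := 47) (b := 59)
    (by norm_num) (by norm_num) (by norm_num) (by norm_num) (by norm_num) (by simp) (by simp) no_order PairNum.m_pair

/-- **The row of the Monster.** -/
theorem row_m (hK : ∀ (T : Type) [Group T] [Finite T] [IsSimpleGroup T], IsKnownSimple' T)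
    (T : OrderTable.{0}) (K : Type u) [Group K] (h : Spor.IsoM K) (p : ℕ) [hp : Fact p.Prime] (hp2 : p ≠ 2) :
    H568.Row p K := by
  obtain ⟨e⟩ := h
  exact H568.Row.congr e.symm (row_monster hK T p hp2)

end Cfsg.Agent.H966.RowM
end
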